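import Cfsg.Agent.H164.RG.TabGen
import Cfsg.Agent.H76.RG.High

/-!
# The tables in the format of `H76/RG/High.lean` (S3509, helper164)

For a simply laced tabulated datum: `cpr_eq`, `sl`, `IsS.rset`; `tab_conn` : `conn_S` in terms of `nb` and `cpr`; `tab_card`.
-/

set_option autoImplicit false
set_option linter.unusedSectionVars false

namespace Cfsg.Agent.H164.RG

open CoxeterSystem Cfsg Cfsg.Lie Cfsg.Lie.ChevalleyDatum
open Cfsg.Agent.ChevalleyStructure Cfsg.Agent.ChevalleyStructure.Elts Cfsg.Agent.ChevalleyStructure.CoxeterGeom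
  Cfsg.Agent.ChevalleyStructure.CoxeterGeomTypes Cfsg.Agent.ChevalleyStructure.NPerm
open Cfsg.Agent.Tits.Roots Cfsg.Agent.Tits.Core Cfsg.Agent.Nodes Cfsg.Agent.Nodes.Reps Cfsg.Agent.Nodes.BNOf
  Cfsg.Agent.Nodes.RGDChev Cfsg.Agent.Nodes.Bruhat
open Cfsg.Agent.H129.TorusChar Cfsg.Agent.H129.WData
open Cfsg.Agent.H92.NE (bl bl_apply bl_comm bl_sr bl_sr_sr FormOK bl_rep bl_add_left bl_sub_left bl_root)
open Cfsg.Agent.Nodes.Coroot
open Cfsg.Agent.H931.KC Cfsg.Agent.H76.RG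

variable {D : ChevalleyDatum} {l : ℕ} {M : CoxeterMatrix (Fin l)} (hp : IsType D l M) {Bm : Mat l}

theorem cpr_eq (h : SL D l Bm) (x : Fin l → ℤ) {b : Fin l → ℤ} (hb : IsRoot M.toCoxeterSystem hp.isCartan b) :
    cpr M.toCoxeterSystem hp.isCartan x b = bl Bm b x := by
  have hfin : Finite M.Group := finite_W hp M.toCoxeterSystem
  obtain ⟨w, i, rfl⟩ := hb
  rw [cpr_rep_sr]
  have h1 : 2 * bl Bm (rep M.toCoxeterSystem hp.isCartan w⁻¹ x) (sr i) =
      Bm i i * pairing (cartanOf D l) i (rep M.toCoxeterSystem hp.isCartan w⁻¹ x) := by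
    rw [bl_sr]
    unfold pairing
    rw [Finset.mul_sum, Finset.mul_sum]
    refine Finset.sum_congr rfl fun j' _ => ?_
    rw [← mul_assoc, h.1.2 i j', mul_assoc]
  have h2 : bl Bm (rep M.toCoxeterSystem hp.isCartan w⁻¹ x) (sr i) =
      bl Bm x (rep M.toCoxeterSystem hp.isCartan w (sr i)) := by
    rw [← bl_rep hp h.1 w, rep_apply_inv]
  rw [h2, h.2 i] at h1
  rw [bl_comm h.1.1]
  omega

theorem sl (h : SL D l Bm) : Cfsg.Agent.KFacts.RgdSL.SL M.toCoxeterSystem hp.isCartan := by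
  intro x y hx hy
  rw [cpr_eq hp h x hy, cpr_eq hp h y hx, bl_comm h.1.1]

section

variable {n : ℕ} {c : Fin l → ℕ} {S : Set (Fin l → ℤ)} (hS : IsS hp n c S)
include hS

/-- `S` is closed, symmetric and stable under its reflections -/
theorem IsS.rset : RSet M.toCoxeterSystem hp.isCartan S where
  root a ha := ((hS a).1 ha).1
  neg a ha := hS.neg hp ha
  add a ha b hb hab := by
    have := hS.sub hp ha (hS.neg hp hb) (by rwa [sub_neg_eq_add])
    rwa [sub_neg_eq_add] at this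
  refl a ha b hb := by
    have hfin : Finite M.Group := finite_W hp M.toCoxeterSystem
    exact (hS.sub_zsmul hp hb (isRoot_refl _ _ ((hS a).1 ha).1 ((hS b).1 hb).1) ((hS a).1 ha).1).2 ha

theorem nb_eq_num (a : Fin l → ℤ) : nb M.toCoxeterSystem hp.isCartan S a = num hp S a := rfl

theorem cpr_ne_of_NO (h : SL D l Bm) {a b : Fin l → ℤ} (ha : a ∈ S) (hb : b ∈ S) (hab : NO hp a b) :
    cpr M.toCoxeterSystem hp.isCartan b a ≠ 0 := by
  have ra := ((hS a).1 ha).1
  have rb := ((hS b).1 hb).1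
  have h0 := bl_self hp h ra
  rw [cpr_eq hp h b ra, bl_comm h.1.1]
  rcases hab with h1 | h1 | h1 | h1
  · rw [(isRoot_sub_iff hp h ra rb).1 h1]; norm_num
  · rw [(isRoot_add_iff hp h ra rb).1 h1]; norm_num
  · rw [← h1, h0]; norm_num
  · have e : b = -a := by rw [h1, neg_neg]
    rw [e, bl_comm h.1.1, map_neg, h0]; norm_num

end

section

variable {n : ℕ} {c : Fin l → ℕ} {c0 : ℕ} (hk : Kac D l n c c0) {T : Tab} (hT : TabOK D l Bm T)
  {S : Set (Fin l → ℤ)} (hS : IsS hp n c S)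
include hk hT hS

/-- **The connectedness**, input of `high_nb`. -/
theorem tab_conn {t : ℕ} (hc : conn T l (2 ^ D.nroots - 1) t (mc l c c0) = true) :
    (∃ a ∈ S, t ≤ nb M.toCoxeterSystem hp.isCartan S a) ∧
    ∀ a ∈ S, ∀ b ∈ S, t ≤ nb M.toCoxeterSystem hp.isCartan S a → t ≤ nb M.toCoxeterSystem hp.isCartan S b →
      Relation.ReflTransGen (fun x y => y ∈ S ∧ cpr M.toCoxeterSystem hp.isCartan y x ≠ 0) a b := by
  obtain ⟨h1, h2⟩ := conn_S hp hk hT hS hc
  refine ⟨h1, fun a ha b hb hat hbt => ?_⟩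
  have h3 := h2 {x | (x ∈ S ∧ t ≤ num hp S x) ∧
    Relation.ReflTransGen (fun x y => y ∈ S ∧ cpr M.toCoxeterSystem hp.isCartan y x ≠ 0) a x}
    (fun x hx => hx.1) ⟨a, ⟨ha, hat⟩, Relation.ReflTransGen.refl⟩
    (fun x hx y hy hyt hxy => ⟨⟨hy, hyt⟩, hx.2.tail ⟨hy, cpr_ne_of_NO hp hS hT.1 hx.1.1 hy hxy⟩⟩) b hb hbt
  exact h3.2

/-- **The number of the roots.** -/
theorem tab_card : S.ncard = pop (phi T l (2 ^ D.nroots - 1) (mc l c c0)) := card_S hp hk hT hS

end

/-- the check over all codes below `k` -/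
def allm (p : ℕ → Bool) : ℕ → Bool
  | 0 => true
  | k + 1 => p k && allm p k

theorem of_allm {p : ℕ → Bool} {k : ℕ} (h : allm p k = true) : ∀ m < k, p m = true := by
  induction k with
  | zero => intro m hm; omega
  | succ k ih =>
    rw [allm, Bool.and_eq_true] at h
    intro m hm
    rcases Nat.lt_succ_iff_lt_or_eq.1 hm with h1 | rfl
    · exact ih h.2 m h1
    · exact h.1

end Cfsg.Agent.H164.RG
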