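import Cfsg.Agent.H164.RG.TabCon

/-!
# The centralizers in `E7` (S3509, helper164)

`tab_E7` : for Kac coordinates of degree `n` and `S` the set of the roots `a` with `n ∣ ∑ a i * c i`: the set of the `a ∈ S` with at
least `6` neighbours is nonempty and connected, or `S.ncard ≤ 26`. `ok_E7` : the masks, for other checks.
-/

set_option autoImplicit false
set_option maxRecDepth 100000

namespace Cfsg.Agent.H164.RG

open CoxeterSystem Cfsg Cfsg.Lie Cfsg.Lie.ChevalleyDatum
open Cfsg.Agent.ChevalleyStructure Cfsg.Agent.ChevalleyStructure.Elts Cfsg.Agent.ChevalleyStructure.CoxeterGeom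
  Cfsg.Agent.ChevalleyStructure.CoxeterGeomTypes Cfsg.Agent.ChevalleyStructure.NPerm
open Cfsg.Agent.Tits.Roots Cfsg.Agent.Tits.Core Cfsg.Agent.Nodes Cfsg.Agent.Nodes.Reps Cfsg.Agent.Nodes.BNOf
  Cfsg.Agent.Nodes.RGDChev Cfsg.Agent.Nodes.Bruhat
open Cfsg.Agent.H129.TorusChar Cfsg.Agent.H129.WData
open Cfsg.Agent.Nodes.Coroot
open Cfsg.Agent.H931.KC Cfsg.Agent.H76.RG

/-- the form -/
abbrev BE7 : Mat 7 :=
  ![![2, 0, -1, 0, 0, 0, 0], ![0, 2, 0, -1, 0, 0, 0], ![-1, 0, 2, -1, 0, 0, 0], ![0, -1, -1, 2, -1, 0, 0],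
    ![0, 0, 0, -1, 2, -1, 0], ![0, 0, 0, 0, -1, 2, -1], ![0, 0, 0, 0, 0, -1, 2]]

/-- the masks of `chevE7` -/
def TE7 : Tab where
  bi := [93, 78, 73, 69, 66, 64, 63, 0]
  K := [[2, 0, -1, 0, 0, 0, 0], [0, 2, 0, -1, 0, 0, 0], [-1, 0, 2, -1, 0, 0, 0], [0, -1, -1, 2, -1, 0, 0],
    [0, 0, 0, -1, 2, -1, 0], [0, 0, 0, 0, -1, 2, -1], [0, 0, 0, 0, 0, -1, 2], [-1, 0, 0, 0, 0, 0, 0]]
  Z := [9903520314283042190603059200, 623922082031286280739931291648, 9912898934109286798511308800,
    29710873209193335508351057920, 703160549412225415020130861056, 661228526764052977169968916398080,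
    713408079754819489151476797278889024]
  P := [42535295865117307932921825928971026432, 84405977732342157929391748327801880576, 63802943797675961899382738893456539648,
    74436767763955288882613195375699296256, 80085986746041181342454375381890760704, 82931689948023685466757391625920446464,
    84357183650479796370774154234839433216]
  N := [1, 127, 3, 7, 143, 8590068127, 5918020825823730623]
  Df := [42535944882417584157818042354407309314, 9969219475920508800639259512636704640, 21308537290272010803079642635661344772,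
    10924663619488800520312062948558256136, 5665040612189914767833677798476661008, 2847024252714933564296040686448611872,
    1425493702456110897406060169676760128, 8589934590]
  No := [63803592834773900133010060610474213379, 10592295693156501400926763165660743672,
    31943000162366458371037460466960955398, 16277930574135162506425682465513291532, 8493605847483704953599515417072431512,
    4270536379072400356820354571134540592, 2138240553684166359944148309797303904, 85070591720331095551560609667338993663]
  adj := [132, 8, 9, 22, 40, 80, 32, 1]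

theorem ok_E7 : TabOK chevE7 7 BE7 TE7 := by decide +kernel

theorem chk_E7 : allm (fun m => decide (pop (phi TE7 7 (2 ^ 126 - 1) m) ≤ 26) || conn TE7 7 (2 ^ 126 - 1) 6 m) 255 =
    true := by decide +kernel

/-- **The centralizers in `E7`.** -/
theorem tab_E7 {M : CoxeterMatrix (Fin 7)} (hp : IsType chevE7 7 M) {n : ℕ} {c : Fin 7 → ℕ} {c0 : ℕ}
    (hk : Kac chevE7 7 n c c0) {S : Set (Fin 7 → ℤ)} (hS : IsS hp n c S) :
    ((∃ a ∈ S, 6 ≤ nb M.toCoxeterSystem hp.isCartan S a) ∧
      ∀ a ∈ S, ∀ b ∈ S, 6 ≤ nb M.toCoxeterSystem hp.isCartan S a → 6 ≤ nb M.toCoxeterSystem hp.isCartan S b →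
        Relation.ReflTransGen (fun x y => y ∈ S ∧ cpr M.toCoxeterSystem hp.isCartan y x ≠ 0) a b) ∨
      S.ncard ≤ 26 := by
  have h1 := of_allm chk_E7 (mc 7 c c0) (mc_ne hk)
  rw [Bool.or_eq_true, decide_eq_true_eq] at h1
  rcases h1 with h1 | h1
  · right
    rw [tab_card hp hk ok_E7 hS]
    exact h1
  · left
    exact tab_conn hp hk ok_E7 hS h1

end Cfsg.Agent.H164.RG
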