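import Cfsg.Agent.H931.KC.Tor

/-!
# The root system of the centralizer: a generic checker (S3509, helper164)

`D` a simply laced tabulated datum, `c`, `c0` Kac coordinates, `S` the set of the roots `a` with `n ∣ ∑ a i * c i`.

* `NO hp a b` : `a`, `b` are not orthogonal; `num hp S a` : the number of the `b ∈ S` with `a - b` a root;
* `Tab`, `TabOK` : bit masks of the roots; `TabOK` is decidable; `mc l c c0` : the code of the set of the zero coordinates;
* `card_S` : `Nat.card S = pop (phi T l (2 ^ D.nroots - 1) (mc l c c0))`;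
* `conn_S` : if `conn` evaluates to `true`, `{a ∈ S | t ≤ num hp S a}` is nonempty and connected by non-orthogonality.
-/

set_option autoImplicit false
set_option linter.unusedSectionVars false

namespace Cfsg.Agent.H164.RG

open CoxeterSystem Cfsg Cfsg.Lie Cfsg.Lie.ChevalleyDatum
open Cfsg.Agent.ChevalleyStructure Cfsg.Agent.ChevalleyStructure.Elts Cfsg.Agent.ChevalleyStructure.CoxeterGeom
  Cfsg.Agent.ChevalleyStructure.CoxeterGeomTypes Cfsg.Agent.ChevalleyStructure.NPerm
open Cfsg.Agent.Tits.Roots Cfsg.Agent.Tits.Core Cfsg.Agent.Nodes Cfsg.Agent.Nodes.Reps Cfsg.Agent.Nodes.BNOf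
  Cfsg.Agent.Nodes.RGDChev Cfsg.Agent.Nodes.Bruhat
open Cfsg.Agent.H129.TorusChar Cfsg.Agent.H129.WData
open Cfsg.Agent.H92.NE (bl bl_apply bl_comm bl_sr bl_sr_sr FormOK bl_rep bl_add_left bl_sub_left bl_root)
open Cfsg.Agent.H931.KC

/-! ### Bits -/

/-- the number of the bits -/
def pc : ℕ → ℕ → ℕ
  | 0, _ => 0
  | k + 1, x => (x.testBit k).toNat + pc k x

theorem pc_eq (k x : ℕ) : pc k x = ((Finset.range k).filter fun r => x.testBit r = true).card := by
  induction k with
  | zero => rfl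
  | succ k ih =>
    rw [pc, Finset.range_add_one, Finset.filter_insert, ih]
    by_cases h : x.testBit k = true
    · rw [if_pos h, Finset.card_insert_of_notMem (by simp), h, Bool.toNat_true, add_comm]
    · rw [if_neg h]
      rw [Bool.not_eq_true] at h
      rw [h, Bool.toNat_false, zero_add]

theorem pc_add (a b x : ℕ) : pc (a + b) x = pc b (x / 2 ^ a) + pc a x := by
  induction b with
  | zero => rw [Nat.add_zero, pc, Nat.zero_add]
  | succ b ih => rw [← Nat.add_assoc, pc, ih, pc, Nat.testBit_div_two_pow, Nat.add_assoc, Nat.add_comm b a]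

theorem pc_mod (a k x : ℕ) (h : k ≤ a) : pc k (x % 2 ^ a) = pc k x := by
  induction k with
  | zero => rfl
  | succ k ih => rw [pc, pc, ih (by omega), Nat.testBit_mod_two_pow, decide_eq_true (by omega), Bool.true_and]

theorem pc_zero (k : ℕ) : pc k 0 = 0 := by
  induction k with
  | zero => rfl
  | succ k ih => rw [pc, ih, Nat.zero_testBit, Bool.toNat_false]

/-- the number of the bits below `2 ^ h`, by bisection -/
def pq : ℕ → ℕ → ℕ
  | 0, x => x % 2
  | h + 1, x => if x = 0 then 0 else pq h (x / 2 ^ 2 ^ h) + pq h (x % 2 ^ 2 ^ h)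

theorem pq_eq (h x : ℕ) : pq h x = pc (2 ^ h) x := by
  induction h generalizing x with
  | zero =>
    rw [pq]
    show x % 2 = (x.testBit 0).toNat + 0
    rw [Nat.add_zero, Nat.testBit_zero]
    rcases Nat.mod_two_eq_zero_or_one x with h | h <;> simp [h]
  | succ h ih =>
    rw [pq]
    split_ifs with hx
    · rw [hx, pc_zero]
    · rw [ih, ih, pc_mod _ _ _ le_rfl, pow_succ, Nat.mul_two, pc_add]

/-- the number of the bits below `256` -/
def pop (x : ℕ) : ℕ := pq 8 x

theorem pop_eq (x : ℕ) : pop x = ((Finset.range 256).filter fun r => x.testBit r = true).card := by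
  rw [pop, pq_eq, pc_eq]
  rfl

/-- the intersection of the masks with index not in `m` -/
def andAll (full : ℕ) : List ℕ → ℕ → ℕ
  | [], _ => full
  | z :: F, m => if m.testBit 0 then andAll full F (m / 2) else z &&& andAll full F (m / 2)

theorem testBit_andAll (full : ℕ) (F : List ℕ) (m r : ℕ) : (andAll full F m).testBit r = true ↔
    full.testBit r = true ∧ ∀ i < F.length, m.testBit i = false → (F.getD i 0).testBit r = true := by
  induction F generalizing m with
  | nil => simp [andAll]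
  | cons z F ih =>
    have key : (∀ i < (z :: F).length, m.testBit i = false → ((z :: F).getD i 0).testBit r = true) ↔
        (m.testBit 0 = false → z.testBit r = true) ∧
          ∀ i < F.length, (m / 2).testBit i = false → (F.getD i 0).testBit r = true := by
      constructor
      · intro h
        refine ⟨fun h0 => by simpa using h 0 (by simp) h0, fun i hi hm => ?_⟩
        have := h (i + 1) (by simpa using hi) (by rwa [Nat.testBit_succ])
        simpa using this
      · rintro ⟨h0, h1⟩ i hi hm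
        cases i with
        | zero => simpa using h0 hm
        | succ i =>
          have := h1 i (by simpa using hi) (by rwa [Nat.testBit_succ] at hm)
          simpa using this
    rw [key, andAll]
    by_cases hm : m.testBit 0 = true
    · rw [if_pos hm, ih]
      constructor
      · rintro ⟨h1, h2⟩
        exact ⟨h1, ⟨fun h => absurd hm (by rw [h]; decide), h2⟩⟩
      · rintro ⟨h1, -, h2⟩
        exact ⟨h1, h2⟩
    · rw [if_neg hm, Nat.testBit_and, Bool.and_eq_true, ih]
      rw [Bool.not_eq_true] at hm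
      constructor
      · rintro ⟨h0, h1, h2⟩
        exact ⟨h1, fun _ => h0, h2⟩
      · rintro ⟨h1, h0, h2⟩
        exact ⟨h0 hm, h1, h2⟩

/-- the union of the masks with index in `m` -/
def orAll : List ℕ → ℕ → ℕ
  | [], _ => 0
  | z :: F, m => if m.testBit 0 then z ||| orAll F (m / 2) else orAll F (m / 2)

theorem testBit_orAll (F : List ℕ) (m r : ℕ) : (orAll F m).testBit r = true ↔
    ∃ i < F.length, m.testBit i = true ∧ (F.getD i 0).testBit r = true := by
  induction F generalizing m with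
  | nil => simp [orAll]
  | cons z F ih =>
    have key : (∃ i < (z :: F).length, m.testBit i = true ∧ ((z :: F).getD i 0).testBit r = true) ↔
        (m.testBit 0 = true ∧ z.testBit r = true) ∨
          ∃ i < F.length, (m / 2).testBit i = true ∧ (F.getD i 0).testBit r = true := by
      constructor
      · rintro ⟨i, hi, h1, h2⟩
        cases i with
        | zero => left; exact ⟨h1, by simpa using h2⟩
        | succ i =>
          right
          exact ⟨i, by simpa using hi, by rwa [Nat.testBit_succ] at h1, by simpa using h2⟩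
      · rintro (⟨h1, h2⟩ | ⟨i, hi, h1, h2⟩)
        · exact ⟨0, by simp, h1, by simpa using h2⟩
        · exact ⟨i + 1, by simpa using hi, by rwa [Nat.testBit_succ], by simpa using h2⟩
    rw [key, orAll]
    by_cases hm : m.testBit 0 = true
    · rw [if_pos hm, Nat.testBit_or, Bool.or_eq_true, ih]
      constructor
      · rintro (h | h)
        · exact Or.inl ⟨hm, h⟩
        · exact Or.inr h
      · rintro (h | h)
        · exact Or.inl h.2
        · exact Or.inr h
    · rw [if_neg hm, ih]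
      constructor
      · exact Or.inr
      · rintro (h | h)
        · exact absurd h.1 hm
        · exact h

/-- the closure under adjacency -/
def grow (adj : List ℕ) (big : ℕ) : ℕ → ℕ → ℕ
  | 0, x => x
  | k + 1, x => grow adj big k (x ||| (big &&& orAll adj x))

theorem grow_ind (adj : List ℕ) (big : ℕ) (Q : ℕ → Prop)
    (hQ : ∀ i j, i < adj.length → Q i → big.testBit j = true → (adj.getD i 0).testBit j = true → Q j) (k : ℕ) :
    ∀ x, (∀ j, x.testBit j = true → Q j) → ∀ j, (grow adj big k x).testBit j = true → Q j := by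
  induction k with
  | zero => exact fun x h => h
  | succ k ih =>
    intro x hx
    refine ih _ fun j hj => ?_
    rw [Nat.testBit_or, Bool.or_eq_true, Nat.testBit_and, Bool.and_eq_true, testBit_orAll] at hj
    rcases hj with hj | ⟨hj, i, hi, h1, h2⟩
    · exact hx j hj
    · exact hQ i j hi (hx i h1) hj h2

/-- the bits `j < k` with `p j` -/
def bits (p : ℕ → Bool) : ℕ → ℕ
  | 0 => 0
  | k + 1 => if p k then 2 ^ k ||| bits p k else bits p k

theorem testBit_bits (p : ℕ → Bool) (k j : ℕ) : (bits p k).testBit j = true ↔ j < k ∧ p j = true := by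
  induction k with
  | zero => simp [bits]
  | succ k ih =>
    rw [bits]
    by_cases h : p k = true
    · rw [if_pos h, Nat.testBit_or, Bool.or_eq_true, ih, Nat.testBit_two_pow, decide_eq_true_eq]
      constructor
      · rintro (rfl | ⟨h1, h2⟩)
        · exact ⟨Nat.lt_succ_self _, h⟩
        · exact ⟨by omega, h2⟩
      · rintro ⟨h1, h2⟩
        by_cases e : k = j
        · exact Or.inl e
        · exact Or.inr ⟨by omega, h2⟩
    · rw [if_neg h, ih]
      constructor
      · rintro ⟨h1, h2⟩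
        exact ⟨by omega, h2⟩
      · rintro ⟨h1, h2⟩
        refine ⟨?_, h2⟩
        rcases Nat.lt_succ_iff_lt_or_eq.1 h1 with h3 | rfl
        · exact h3
        · exact absurd h2 h

/-! ### Simply laced root systems -/

variable {D : ChevalleyDatum} {l : ℕ} {M : CoxeterMatrix (Fin l)} (hp : IsType D l M) {Bm : Mat l}

/-- the form of a simply laced datum -/
def SL (D : ChevalleyDatum) (l : ℕ) (Bm : Mat l) : Prop := FormOK D l Bm ∧ ∀ i, Bm i i = 2

instance (D : ChevalleyDatum) (l : ℕ) (Bm : Mat l) : Decidable (SL D l Bm) := by unfold SL; infer_instance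

/-- not orthogonal -/
def NO (a b : Fin l → ℤ) : Prop :=
  IsRoot M.toCoxeterSystem hp.isCartan (a - b) ∨ IsRoot M.toCoxeterSystem hp.isCartan (a + b) ∨ a = b ∨ a = -b

theorem NO.symm {a b : Fin l → ℤ} (h : NO hp a b) : NO hp b a := by
  rcases h with h | h | h | h
  · left
    have := h.neg
    rwa [neg_sub] at this
  · right; left
    rwa [add_comm]
  · exact Or.inr (Or.inr (Or.inl h.symm))
  · right; right; right
    rw [h, neg_neg]

/-- the number of the `b ∈ S` with `a - b` a root -/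
noncomputable def num (S : Set (Fin l → ℤ)) (a : Fin l → ℤ) : ℕ :=
  Nat.card {b // b ∈ S ∧ IsRoot M.toCoxeterSystem hp.isCartan (a - b)}

section SL

variable (h : SL D l Bm)
include h

theorem bl_self {a : Fin l → ℤ} (ha : IsRoot M.toCoxeterSystem hp.isCartan a) : bl Bm a a = 2 :=
  bl_root hp h.1 h.2 ha

/-- the reflection of a root -/
theorem exists_srefl {b : Fin l → ℤ} (hb : IsRoot M.toCoxeterSystem hp.isCartan b) :
    ∃ u : M.Group, ∀ x, rep M.toCoxeterSystem hp.isCartan u x = x - bl Bm b x • b := by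
  obtain ⟨u, j, e⟩ := hb
  refine ⟨u * M.toCoxeterSystem.simple j * u⁻¹, fun x => ?_⟩
  rw [rep_mul_apply, rep_mul_apply, rep_simple_eq, map_sub, map_zsmul, rep_apply_inv, ← e]
  congr 2
  have h1 : 2 * bl Bm (rep M.toCoxeterSystem hp.isCartan u⁻¹ x) (sr j) =
      Bm j j * pairing (cartanOf D l) j (rep M.toCoxeterSystem hp.isCartan u⁻¹ x) := by
    rw [bl_sr]
    unfold pairing
    rw [Finset.mul_sum, Finset.mul_sum]
    refine Finset.sum_congr rfl fun j' _ => ?_
    rw [← mul_assoc, h.1.2 j j', mul_assoc]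
  have h2 : bl Bm (rep M.toCoxeterSystem hp.isCartan u⁻¹ x) (sr j) = bl Bm x b := by
    rw [← bl_rep hp h.1 u, rep_apply_inv, ← e]
  rw [h2, h.2 j] at h1
  rw [bl_comm h.1.1 x b]
  omega

theorem isRoot_sub_iff {a b : Fin l → ℤ} (ha : IsRoot M.toCoxeterSystem hp.isCartan a)
    (hb : IsRoot M.toCoxeterSystem hp.isCartan b) :
    IsRoot M.toCoxeterSystem hp.isCartan (a - b) ↔ bl Bm b a = 1 := by
  have h1 := bl_self hp h ha
  have h2 := bl_self hp h hb
  have h3 : bl Bm a b = bl Bm b a := bl_comm h.1.1 _ _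
  constructor
  · intro hab
    have h4 := bl_self hp h hab
    rw [bl_sub_left h.1.1, map_sub, map_sub] at h4
    omega
  · intro e
    obtain ⟨u, hu⟩ := exists_srefl hp h hb
    have h4 := ha.act u
    rwa [hu, e, one_smul] at h4

theorem isRoot_add_iff {a b : Fin l → ℤ} (ha : IsRoot M.toCoxeterSystem hp.isCartan a)
    (hb : IsRoot M.toCoxeterSystem hp.isCartan b) :
    IsRoot M.toCoxeterSystem hp.isCartan (a + b) ↔ bl Bm b a = -1 := by
  have h1 := isRoot_sub_iff hp h ha hb.neg
  rw [sub_neg_eq_add] at h1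
  have e : bl Bm (-b) a = - bl Bm b a := by
    rw [bl_comm h.1.1, map_neg, bl_comm h.1.1]
  rw [h1, e]
  omega

end SL

/-- the roots with `n ∣ ∑ a i * c i` -/
def IsS (n : ℕ) (c : Fin l → ℕ) (S : Set (Fin l → ℤ)) : Prop :=
  ∀ a, a ∈ S ↔ IsRoot M.toCoxeterSystem hp.isCartan a ∧ (n : ℤ) ∣ ∑ i, a i * (c i : ℤ)

section IsS

variable {n : ℕ} {c : Fin l → ℕ} {S : Set (Fin l → ℤ)} (hS : IsS hp n c S)
include hS

theorem IsS.neg {a : Fin l → ℤ} (ha : a ∈ S) : -a ∈ S := by
  rw [hS] at ha ⊢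
  refine ⟨ha.1.neg, ?_⟩
  have e : (∑ i, (-a) i * (c i : ℤ)) = -∑ i, a i * (c i : ℤ) := by
    rw [← psi_apply (fun i => (c i : ℤ)), ← psi_apply (fun i => (c i : ℤ)), map_neg]
  rw [e]
  exact (dvd_neg).2 ha.2

theorem IsS.sub_zsmul {a x : Fin l → ℤ} {k : ℤ} (ha : a ∈ S)
    (hx : IsRoot M.toCoxeterSystem hp.isCartan (x - k • a)) (h0 : IsRoot M.toCoxeterSystem hp.isCartan x) :
    x - k • a ∈ S ↔ x ∈ S := by
  rw [hS] at ha
  rw [hS, hS]
  have e : (∑ i, (x - k • a) i * (c i : ℤ)) = (∑ i, x i * (c i : ℤ)) - k * ∑ i, a i * (c i : ℤ) := by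
    rw [← psi_apply (fun i => (c i : ℤ)), ← psi_apply (fun i => (c i : ℤ)) x, ← psi_apply (fun i => (c i : ℤ)) a,
      map_sub, map_zsmul, smul_eq_mul]
  rw [e]
  have h1 : (n : ℤ) ∣ k * ∑ i, a i * (c i : ℤ) := Dvd.dvd.mul_left ha.2 k
  constructor
  · rintro ⟨-, h2⟩
    have := dvd_add h2 h1
    rw [sub_add_cancel] at this
    exact ⟨h0, this⟩
  · rintro ⟨-, h2⟩
    exact ⟨hx, dvd_sub h2 h1⟩

theorem IsS.sub {a b : Fin l → ℤ} (ha : a ∈ S) (hb : b ∈ S)
    (hab : IsRoot M.toCoxeterSystem hp.isCartan (a - b)) : a - b ∈ S := by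
  have h1 := hS.sub_zsmul hp (k := 1) hb (x := a) (by rwa [one_smul]) ((hS a).1 ha).1
  rw [one_smul] at h1
  exact h1.2 ha

theorem num_neg (a : Fin l → ℤ) : num hp S (-a) = num hp S a := by
  refine Nat.card_congr (Equiv.subtypeEquiv (Equiv.neg (Fin l → ℤ)) fun b => ?_)
  rw [Equiv.neg_apply]
  constructor
  · rintro ⟨h1, h2⟩
    refine ⟨hS.neg hp h1, ?_⟩
    have := h2.neg
    rwa [neg_sub, sub_neg_eq_add, add_comm, ← sub_neg_eq_add] at this
  · rintro ⟨h1, h2⟩
    refine ⟨by simpa using hS.neg hp h1, ?_⟩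
    have := h2.neg
    rwa [sub_neg_eq_add, neg_add] at this

variable (h : SL D l Bm)
include h

theorem num_eq_of_sub {a b : Fin l → ℤ} (ha : a ∈ S) (hb : b ∈ S)
    (hab : IsRoot M.toCoxeterSystem hp.isCartan (a - b)) : num hp S a = num hp S b := by
  obtain ⟨u, hu⟩ := exists_srefl hp h hab
  have hra := ((hS a).1 ha).1
  have hrb := ((hS b).1 hb).1
  have hc := hS.sub hp ha hb hab
  have e1 : bl Bm (a - b) a = 1 := by
    rw [bl_sub_left h.1.1, bl_self hp h hra, (isRoot_sub_iff hp h hra hrb).1 hab]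
    rfl
  have e2 : rep M.toCoxeterSystem hp.isCartan u a = b := by
    rw [hu, e1, one_smul, sub_sub_cancel]
  refine Nat.card_congr (Equiv.subtypeEquiv ⟨rep M.toCoxeterSystem hp.isCartan u,
    rep M.toCoxeterSystem hp.isCartan u⁻¹, fun x => rep_inv_apply _ _ _ _, fun x => rep_apply_inv _ _ _ _⟩ fun x => ?_)
  show _ ↔ rep M.toCoxeterSystem hp.isCartan u x ∈ S ∧
    IsRoot M.toCoxeterSystem hp.isCartan (b - rep M.toCoxeterSystem hp.isCartan u x)
  have e3 : b - rep M.toCoxeterSystem hp.isCartan u x = rep M.toCoxeterSystem hp.isCartan u (a - x) := by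
    rw [map_sub, e2]
  rw [e3]
  have hact : ∀ z, IsRoot M.toCoxeterSystem hp.isCartan (rep M.toCoxeterSystem hp.isCartan u z) ↔
      IsRoot M.toCoxeterSystem hp.isCartan z := by
    intro z
    refine ⟨fun hz => ?_, fun hz => hz.act u⟩
    have := hz.act u⁻¹
    rwa [rep_inv_apply] at this
  rw [hact]
  refine and_congr_left fun hx => ?_
  by_cases hxr : IsRoot M.toCoxeterSystem hp.isCartan x
  · have h3 : IsRoot M.toCoxeterSystem hp.isCartan (x - bl Bm (a - b) x • (a - b)) := by
      rw [← hu]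
      exact hxr.act u
    rw [hu]
    exact (hS.sub_zsmul hp hc h3 hxr).symm
  · constructor
    · intro h4
      exact absurd ((hS x).1 h4).1 hxr
    · intro h4
      exact absurd ((hact x).1 ((hS _).1 h4).1) hxr

theorem num_eq {a b : Fin l → ℤ} (ha : a ∈ S) (hb : b ∈ S) (hab : NO hp a b) : num hp S a = num hp S b := by
  rcases hab with h1 | h1 | h1 | h1
  · exact num_eq_of_sub hp hS h ha hb h1
  · rw [← num_neg hp hS b]
    exact num_eq_of_sub hp hS h ha (hS.neg hp hb) (by rwa [sub_neg_eq_add])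
  · rw [h1]
  · rw [h1, num_neg hp hS]

end IsS

/-! ### The tables -/

/-- bit masks of the roots: `bi` the indices of the extended simple roots, `K` their functionals, `Z`, `P`, `N` the roots with
coordinate `i` zero, the mark, the negative of the mark, `Df` the roots with `β j - b` a root, `No` the roots not orthogonal to
`β j`, `adj` the extended diagram -/
structure Tab where
  bi : List ℕ
  K : List (List ℤ)
  Z : List ℕ
  P : List ℕ
  N : List ℕ
  Df : List ℕ
  No : List ℕ
  adj : List ℕ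

/-- the extended simple roots -/
def be (D : ChevalleyDatum) (l : ℕ) (T : Tab) (j : ℕ) : Fin l → ℤ := vec D l (T.bi.getD j 0)

/-- the value of the functional `j` at the root `r` -/
def kv (D : ChevalleyDatum) (l : ℕ) (T : Tab) (j r : ℕ) : ℤ := ∑ i : Fin l, vec D l r i * (T.K.getD j []).getD i 0

/-- the checks of the table -/
def TabOK (D : ChevalleyDatum) (l : ℕ) (Bm : Mat l) (T : Tab) : Prop :=
  SL D l Bm ∧ (T.Z.length = l ∧ T.P.length = l ∧ T.N.length = l ∧ T.No.length = l + 1 ∧ T.adj.length = l + 1 ∧ D.nroots ≤ 256) ∧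
  (∀ j : Fin (l + 1), T.bi.getD j 0 < D.nroots ∧ ∀ i : Fin l, bl Bm (be D l T j) (sr i) = (T.K.getD j []).getD i 0) ∧
  (∀ i : Fin l, be D l T i = sr i) ∧ be D l T l = -hr D l ∧
  (∀ j j' : Fin (l + 1), (T.adj.getD j 0).testBit j' = true → kv D l T j (T.bi.getD j' 0) = -1) ∧
  (∀ r : Fin D.nroots, ∀ i : Fin l, (T.Z.getD i 0).testBit r = decide (vec D l r i = 0) ∧
    (T.P.getD i 0).testBit r = decide (vec D l r i = hr D l i) ∧
    (T.N.getD i 0).testBit r = decide (vec D l r i = -hr D l i)) ∧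
  ∀ r : Fin D.nroots, ∀ j : Fin (l + 1), (T.Df.getD j 0).testBit r = decide (kv D l T j r = 1) ∧
    ((T.No.getD j 0).testBit r = true → kv D l T j r = 1 ∨ kv D l T j r = -1 ∨ (r : ℕ) = T.bi.getD j 0 ∨
      vec D l r = -be D l T j)

instance (D : ChevalleyDatum) (l : ℕ) (Bm : Mat l) (T : Tab) : Decidable (TabOK D l Bm T) := by
  unfold TabOK; infer_instance

/-- the mask of the roots of the centralizer, `m` the mask of the zero coordinates -/
def phi (T : Tab) (l full m : ℕ) : ℕ :=
  andAll full T.Z m ||| (if m.testBit l then andAll full T.P m ||| andAll full T.N m else 0)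

/-- the base elements with at least `t` -/
def bigs (T : Tab) (l full t m : ℕ) : ℕ :=
  bits (fun j => m.testBit j && decide (t ≤ pop (phi T l full m &&& T.Df.getD j 0))) (l + 1)

/-- the connectedness check -/
def conn (T : Tab) (l full t m : ℕ) : Bool :=
  decide (bigs T l full t m ≠ 0 ∧ (bigs T l full t m).testBit (Nat.log2 (bigs T l full t m)) = true ∧
    grow T.adj (bigs T l full t m) (l + 1) (2 ^ Nat.log2 (bigs T l full t m)) = bigs T l full t m ∧
    phi T l full m &&& orAll T.No m = phi T l full m)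

/-- the code of the zero coordinates -/
def mc (l : ℕ) (c : Fin l → ℕ) (c0 : ℕ) : ℕ :=
  bits (fun j => if h : j < l then decide (c ⟨j, h⟩ = 0) else decide (c0 = 0)) (l + 1)

/-! ### The set `S` in terms of the masks -/

theorem mc_lt {c : Fin l → ℕ} {c0 : ℕ} (i : Fin l) : (mc l c c0).testBit i = true ↔ c i = 0 := by
  unfold mc
  rw [testBit_bits, dif_pos i.2, decide_eq_true_eq]
  exact ⟨fun h => h.2, fun h => ⟨by have := i.2; omega, h⟩⟩

theorem mc_eq {c : Fin l → ℕ} {c0 : ℕ} : (mc l c c0).testBit l = true ↔ c0 = 0 := by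
  unfold mc
  rw [testBit_bits, dif_neg (lt_irrefl _), decide_eq_true_eq]
  exact ⟨fun h => h.2, fun h => ⟨Nat.lt_succ_self _, h⟩⟩

theorem mc_le {c : Fin l → ℕ} {c0 : ℕ} {j : ℕ} (h : (mc l c c0).testBit j = true) : j < l + 1 := by
  unfold mc at h
  exact ((testBit_bits _ _ _).1 h).1

/-- the code is below `2 ^ (l + 1) - 1` -/
theorem mc_ne {n : ℕ} {c : Fin l → ℕ} {c0 : ℕ} (K : Kac D l n c c0) : mc l c c0 < 2 ^ (l + 1) - 1 := by
  have h1 : mc l c c0 < 2 ^ (l + 1) := by
    refine Nat.lt_pow_two_of_testBit _ fun j hj => ?_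
    by_contra h
    rw [Bool.not_eq_false] at h
    exact absurd (mc_le h) (by omega)
  have h2 : mc l c c0 ≠ 2 ^ (l + 1) - 1 := by
    intro e
    have h3 : ∀ j < l + 1, (mc l c c0).testBit j = true := fun j hj => by
      rw [e, Nat.testBit_two_pow_sub_one, decide_eq_true_eq]
      exact hj
    obtain ⟨i, hi⟩ := K.ne (mc_eq.1 (h3 l (Nat.lt_succ_self l)))
    exact hi ((mc_lt i).1 (h3 i (by have := i.2; omega)))
  omega

section main

variable {n : ℕ} {c : Fin l → ℕ} {c0 : ℕ} (hk : Kac D l n c c0) {T : Tab} (hT : TabOK D l Bm T)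
  {S : Set (Fin l → ℤ)} (hS : IsS hp n c S)

include hp in
theorem hr_nonneg (i : Fin l) : 0 ≤ hr D l i := by
  obtain ⟨Bm, hv, v, C, H⟩ := exists_ok hp
  have h1 := isRoot_hr hp H
  have h2 := le_hr hp H h1 i
  have h3 := le_hr hp H h1.neg i
  rw [Pi.neg_apply] at h3
  omega

include hp in
theorem le_hr' {a : Fin l → ℤ} (ha : IsRoot M.toCoxeterSystem hp.isCartan a) (i : Fin l) : a i ≤ hr D l i := by
  obtain ⟨Bm, hv, v, C, H⟩ := exists_ok hp
  exact le_hr hp H ha i

include hk in
/-- the divisibility for a root of any sign -/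
theorem dvd_iff' {a : Fin l → ℤ} (ha : IsRoot M.toCoxeterSystem hp.isCartan a) :
    (n : ℤ) ∣ ∑ i, a i * (c i : ℤ) ↔ (∀ i, c i ≠ 0 → a i = 0) ∨
      (c0 = 0 ∧ ((∀ i, c i ≠ 0 → a i = hr D l i) ∨ ∀ i, c i ≠ 0 → a i = -hr D l i)) := by
  have key : ∀ b : Fin l → ℤ, IsRoot M.toCoxeterSystem hp.isCartan b → 0 ≤ b →
      ((n : ℤ) ∣ ∑ i, b i * (c i : ℤ) ↔ (∀ i, c i ≠ 0 → b i = 0) ∨
      (c0 = 0 ∧ ((∀ i, c i ≠ 0 → b i = hr D l i) ∨ ∀ i, c i ≠ 0 → b i = -hr D l i))) := by
    intro b hb h0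
    rw [dvd_iff hp hk hb h0]
    constructor
    · rintro (h | ⟨h, h'⟩)
      · exact Or.inl fun i hi => by by_contra h1; exact hi (h i h1)
      · exact Or.inr ⟨h, Or.inl fun i hi => by by_contra h1; exact hi (h' i h1)⟩
    · rintro (h | ⟨h, h' | h'⟩)
      · exact Or.inl fun i hi => by by_contra h1; exact hi (h i h1)
      · exact Or.inr ⟨h, fun i hi => by by_contra h1; exact hi (h' i h1)⟩
      · refine Or.inr ⟨h, fun i hi => ?_⟩
        by_contra h1
        have h2 := h' i h1
        have h3 : (0 : ℤ) ≤ b i := h0 i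
        have h4 := hr_nonneg hp i
        omega
  rcases ha.pos_or_neg with h0 | h0
  · exact key a ha h0
  · have h1 := key (-a) ha.neg (neg_nonneg.2 h0)
    have e : (∑ i, (-a) i * (c i : ℤ)) = -∑ i, a i * (c i : ℤ) := by
      rw [← psi_apply (fun i => (c i : ℤ)), ← psi_apply (fun i => (c i : ℤ)), map_neg]
    rw [e, dvd_neg] at h1
    rw [h1]
    simp only [Pi.neg_apply, neg_eq_zero, neg_inj]
    refine or_congr Iff.rfl (and_congr Iff.rfl ?_)
    rw [or_comm]
    refine or_congr Iff.rfl (forall_congr' fun i => forall_congr' fun _ => ?_)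
    constructor <;> intro h <;> omega

include hk hT hS in
theorem mem_iff {r : ℕ} (hr' : r < D.nroots) : vec D l r ∈ S ↔
    (phi T l (2 ^ D.nroots - 1) (mc l c c0)).testBit r = true := by
  obtain ⟨-, ⟨hZ, hP, hN, -, -, -⟩, -, -, -, -, h1, -⟩ := hT
  have hroot := isRoot_vec hp M.toCoxeterSystem hr'
  have hfull : (2 ^ D.nroots - 1 : ℕ).testBit r = true := by
    rw [Nat.testBit_two_pow_sub_one, decide_eq_true_eq]
    exact hr'
  have key : ∀ (F : List ℕ) (v : Fin l → ℤ), F.length = l →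
      (∀ i : Fin l, (F.getD i 0).testBit r = decide (vec D l r i = v i)) →
      ((andAll (2 ^ D.nroots - 1) F (mc l c c0)).testBit r = true ↔ ∀ i, c i ≠ 0 → vec D l r i = v i) := by
    intro F v hF hv
    rw [testBit_andAll]
    constructor
    · rintro ⟨-, h⟩ i hi
      have h2 := h i (by rw [hF]; exact i.2) (by
        by_contra h3
        rw [Bool.not_eq_false] at h3
        exact hi ((mc_lt i).1 h3))
      rwa [hv, decide_eq_true_eq] at h2
    · intro h
      refine ⟨hfull, fun i hi hm => ?_⟩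
      have hi' : i < l := by rw [← hF]; exact hi
      have h2 := hv ⟨i, hi'⟩
      rw [h2, decide_eq_true_eq]
      refine h ⟨i, hi'⟩ fun h3 => ?_
      have h4 := (mc_lt (c0 := c0) (⟨i, hi'⟩ : Fin l)).2 h3
      rw [hm] at h4
      exact absurd h4 (by decide)
  have kZ := key T.Z (fun _ => 0) hZ fun i => (h1 ⟨r, hr'⟩ i).1
  have kP := key T.P (fun i => hr D l i) hP fun i => (h1 ⟨r, hr'⟩ i).2.1
  have kN := key T.N (fun i => -hr D l i) hN fun i => (h1 ⟨r, hr'⟩ i).2.2
  rw [hS, dvd_iff' hp hk hroot, and_iff_right hroot]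
  unfold phi
  rw [Nat.testBit_or, Bool.or_eq_true, kZ]
  refine or_congr Iff.rfl ?_
  by_cases h0 : c0 = 0
  · rw [if_pos (mc_eq.2 h0), Nat.testBit_or, Bool.or_eq_true, kP, kN, and_iff_right h0]
  · rw [if_neg (fun h => h0 (mc_eq.1 h))]
    simp [h0]

theorem phi_lt {N m r : ℕ} (h : (phi T l (2 ^ N - 1) m).testBit r = true) : r < N := by
  unfold phi at h
  rw [Nat.testBit_or, Bool.or_eq_true, testBit_andAll] at h
  rcases h with h | h
  · have h3 := h.1
    rwa [Nat.testBit_two_pow_sub_one, decide_eq_true_eq] at h3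
  · split_ifs at h with h0
    · rw [Nat.testBit_or, Bool.or_eq_true, testBit_andAll, testBit_andAll] at h
      rcases h with h | h <;>
      · have h3 := h.1
        rwa [Nat.testBit_two_pow_sub_one, decide_eq_true_eq] at h3
    · simp at h

include hk hT hS in
/-- counting -/
theorem card_eq (Q : (Fin l → ℤ) → Prop) (y : ℕ) (hy : ∀ r < D.nroots, Q (vec D l r) ↔ y.testBit r = true) :
    Nat.card {a // a ∈ S ∧ Q a} = pop (phi T l (2 ^ D.nroots - 1) (mc l c c0) &&& y) := by
  classical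
  set F := (Finset.range 256).filter
    fun r => (phi T l (2 ^ D.nroots - 1) (mc l c c0) &&& y).testBit r = true with hF
  have hmem : ∀ r, r ∈ F ↔ r < D.nroots ∧ vec D l r ∈ S ∧ Q (vec D l r) := by
    intro r
    rw [hF, Finset.mem_filter, Finset.mem_range, Nat.testBit_and, Bool.and_eq_true]
    constructor
    · rintro ⟨-, h1, h2⟩
      have hr := phi_lt h1
      exact ⟨hr, (mem_iff hp hk hT hS hr).2 h1, (hy r hr).2 h2⟩
    · rintro ⟨hr, h1, h2⟩
      exact ⟨lt_of_lt_of_le hr hT.2.1.2.2.2.2.2, (mem_iff hp hk hT hS hr).1 h1, (hy r hr).1 h2⟩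
  have hb : Function.Bijective (fun r : ↥F => (⟨vec D l r, ((hmem r).1 r.2).2⟩ : {a // a ∈ S ∧ Q a})) := by
    constructor
    · intro r s hrs
      exact Subtype.ext (vec_inj hp ((hmem r).1 r.2).1 ((hmem s).1 s.2).1 (congrArg Subtype.val hrs))
    · rintro ⟨a, ha, hQ⟩
      obtain ⟨r, hr, rfl⟩ := (isRoot_iff hp M.toCoxeterSystem a).1 ((hS a).1 ha).1
      exact ⟨⟨r, (hmem r).2 ⟨hr, ha, hQ⟩⟩, rfl⟩
  rw [pop_eq, ← hF, ← Nat.card_congr (Equiv.ofBijective _ hb), Nat.card_eq_fintype_card, Fintype.card_coe]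

include hk hT hS in
/-- **The number of the roots.** -/
theorem card_S : Nat.card S = pop (phi T l (2 ^ D.nroots - 1) (mc l c c0)) := by
  have h1 := card_eq hp hk hT hS (fun _ => True) (2 ^ D.nroots - 1) fun r hr => by
    rw [Nat.testBit_two_pow_sub_one, decide_eq_true_eq, true_iff]
    exact hr
  have h2 : phi T l (2 ^ D.nroots - 1) (mc l c c0) &&& (2 ^ D.nroots - 1) =
      phi T l (2 ^ D.nroots - 1) (mc l c c0) := by
    refine Nat.eq_of_testBit_eq fun r => ?_
    rw [Nat.testBit_and, Nat.testBit_two_pow_sub_one]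
    by_cases hr : r < D.nroots
    · rw [decide_eq_true hr, Bool.and_true]
    · rw [decide_eq_false hr, Bool.and_false]
      exact (Bool.eq_false_iff.2 fun h => hr (phi_lt h)).symm
  rw [h2] at h1
  rw [← h1]
  exact Nat.card_congr (Equiv.subtypeEquivRight fun a => by rw [and_true])

include hT in
theorem be_none : be D l T l = -hr D l := hT.2.2.2.2.1

include hT in
theorem be_some (i : Fin l) : be D l T i = sr i := hT.2.2.2.1 i

include hp hT in
theorem isRoot_be {j : ℕ} (hj : j < l + 1) : IsRoot M.toCoxeterSystem hp.isCartan (be D l T j) :=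
  isRoot_vec hp M.toCoxeterSystem (hT.2.2.1 ⟨j, hj⟩).1

include hT in
theorem bl_be {j : ℕ} (hj : j < l + 1) (r : ℕ) : bl Bm (be D l T j) (vec D l r) = kv D l T j r := by
  have h1 := eq_psi (bl Bm (be D l T j)) (vec D l r)
  rw [h1]
  unfold kv
  exact Finset.sum_congr rfl fun i _ => by rw [(hT.2.2.1 ⟨j, hj⟩).2 i]

include hk hT hS in
/-- the base elements in `S` -/
theorem be_mem {j : ℕ} (hj : (mc l c c0).testBit j = true) : be D l T j ∈ S := by
  have hj' := mc_le hj
  rw [hS]
  refine ⟨isRoot_be hp hT hj', ?_⟩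
  rcases Nat.lt_succ_iff_lt_or_eq.1 hj' with h1 | h1
  · rw [← psi_apply (fun i => (c i : ℤ)), show j = ((⟨j, h1⟩ : Fin l) : ℕ) from rfl, be_some hT, psi_sr]
    have h2 := (mc_lt (c0 := c0) (⟨j, h1⟩ : Fin l)).1 hj
    rw [h2]
    exact dvd_zero _
  · subst h1
    have h2 := mc_eq.1 hj
    have h3 := hk.sum
    rw [← psi_apply (fun i => (c i : ℤ)), be_none hT, map_neg, dvd_neg, psi_apply]
    rw [h2, Nat.cast_zero, zero_add] at h3
    rw [h3]

include hk hT hS in
theorem num_be {j : ℕ} (hj : j < l + 1) : num hp S (be D l T j) =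
    pop (phi T l (2 ^ D.nroots - 1) (mc l c c0) &&& T.Df.getD j 0) := by
  refine card_eq hp hk hT hS (fun b => IsRoot M.toCoxeterSystem hp.isCartan (be D l T j - b)) _ fun r hr => ?_
  rw [isRoot_sub_iff hp hT.1 (isRoot_be hp hT hj) (isRoot_vec hp M.toCoxeterSystem hr),
    bl_comm hT.1.1.1, bl_be hT hj, (hT.2.2.2.2.2.2.2 ⟨r, hr⟩ ⟨j, hj⟩).1, decide_eq_true_eq]

include hk hT hS in
theorem mem_bigs {t j : ℕ} (hj : (bigs T l (2 ^ D.nroots - 1) t (mc l c c0)).testBit j = true) :
    j < l + 1 ∧ be D l T j ∈ S ∧ t ≤ num hp S (be D l T j) := by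
  unfold bigs at hj
  rw [testBit_bits, Bool.and_eq_true, decide_eq_true_eq] at hj
  obtain ⟨h1, h2, h3⟩ := hj
  refine ⟨h1, be_mem hp hk hT hS h2, ?_⟩
  rw [num_be hp hk hT hS h1]
  exact h3

include hk hT hS in
theorem bigs_mem {t j : ℕ} (hj : (mc l c c0).testBit j = true) (h : t ≤ num hp S (be D l T j)) :
    (bigs T l (2 ^ D.nroots - 1) t (mc l c c0)).testBit j = true := by
  have hj' := mc_le hj
  unfold bigs
  rw [testBit_bits, Bool.and_eq_true, decide_eq_true_eq]
  refine ⟨hj', hj, ?_⟩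
  rw [← num_be hp hk hT hS hj']
  exact h

include hk hT hS in
/-- every root of `S` is not orthogonal to a base element -/
theorem exists_be (hno : phi T l (2 ^ D.nroots - 1) (mc l c c0) &&& orAll T.No (mc l c c0) =
    phi T l (2 ^ D.nroots - 1) (mc l c c0)) {a : Fin l → ℤ} (ha : a ∈ S) :
    ∃ j, (mc l c c0).testBit j = true ∧ NO hp a (be D l T j) := by
  have hra := ((hS a).1 ha).1
  obtain ⟨r, hr, rfl⟩ := (isRoot_iff hp M.toCoxeterSystem a).1 hra
  rw [mem_iff hp hk hT hS hr, ← hno, Nat.testBit_and, Bool.and_eq_true, testBit_orAll] at ha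
  obtain ⟨-, j, hj, h1, h2⟩ := ha
  rw [hT.2.1.2.2.2.1] at hj
  refine ⟨j, h1, ?_⟩
  have hrb := isRoot_be hp hT hj
  rcases (hT.2.2.2.2.2.2.2 ⟨r, hr⟩ ⟨j, hj⟩).2 h2 with h3 | h3 | h3 | h3
  · rw [← bl_be hT hj] at h3
    exact Or.inl ((isRoot_sub_iff hp hT.1 hra hrb).2 h3)
  · rw [← bl_be hT hj] at h3
    exact Or.inr (Or.inl ((isRoot_add_iff hp hT.1 hra hrb).2 h3))
  · refine Or.inr (Or.inr (Or.inl ?_))
    have h4 : r = T.bi.getD j 0 := h3
    unfold be
    rw [← h4]
  · exact Or.inr (Or.inr (Or.inr h3))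

include hk hT hS in
/-- **Connectedness.** -/
theorem conn_S {t : ℕ} (hc : conn T l (2 ^ D.nroots - 1) t (mc l c c0) = true) :
    (∃ a ∈ S, t ≤ num hp S a) ∧ ∀ X : Set (Fin l → ℤ), (∀ a ∈ X, a ∈ S ∧ t ≤ num hp S a) → X.Nonempty →
      (∀ a ∈ X, ∀ b, b ∈ S → t ≤ num hp S b → NO hp a b → b ∈ X) → ∀ b, b ∈ S → t ≤ num hp S b → b ∈ X := by
  unfold conn at hc
  rw [decide_eq_true_eq] at hc
  set big := bigs T l (2 ^ D.nroots - 1) t (mc l c c0) with hbig
  obtain ⟨hne, hlog, hgrow, hno⟩ := hc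
  have hin := mem_bigs hp hk hT hS hlog
  refine ⟨⟨_, hin.2⟩, fun X hX hXne hcl b hb hbt => ?_⟩
  -- the base elements are equivalent
  have key : ∀ j, big.testBit j = true → (be D l T j ∈ X ↔ be D l T (Nat.log2 big) ∈ X) := by
    intro j hj
    have h1 := grow_ind T.adj big (fun j => big.testBit j = true ∧ (be D l T j ∈ X ↔ be D l T (Nat.log2 big) ∈ X)) ?_ (l + 1)
      (2 ^ Nat.log2 big) ?_ j (by rw [hgrow]; exact hj)
    · exact h1.2
    · rintro i j hi ⟨h2, h3⟩ h4 h5
      refine ⟨h4, ?_⟩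
      rw [← h3]
      obtain ⟨hi1, hi2, hi3⟩ := mem_bigs hp hk hT hS h2
      obtain ⟨hj1, hj2, hj3⟩ := mem_bigs hp hk hT hS h4
      have h6 := hT.2.2.2.2.2.1 ⟨i, hi1⟩ ⟨j, hj1⟩ h5
      rw [← bl_be hT hi1] at h6
      have h7 : NO hp (be D l T j) (be D l T i) := Or.inr (Or.inl ((isRoot_add_iff hp hT.1
        (isRoot_be hp hT hj1) (isRoot_be hp hT hi1)).2 h6))
      exact ⟨fun h => hcl _ h _ hi2 hi3 h7, fun h => hcl _ h _ hj2 hj3 h7.symm⟩
    · intro j hj
      rw [Nat.testBit_two_pow, decide_eq_true_eq] at hj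
      subst hj
      exact ⟨hlog, Iff.rfl⟩
  obtain ⟨a, ha⟩ := hXne
  obtain ⟨haS, hat⟩ := hX a ha
  obtain ⟨j, hj, hja⟩ := exists_be hp hk hT hS hno haS
  have h8 := num_eq hp hS hT.1 haS (be_mem hp hk hT hS hj) hja
  have h9 := bigs_mem hp hk hT hS (t := t) hj (by rw [← h8]; exact hat)
  have h10 := hcl a ha _ (be_mem hp hk hT hS hj) (by rw [← h8]; exact hat) hja
  obtain ⟨i, hi, hib⟩ := exists_be hp hk hT hS hno hb
  have h11 := num_eq hp hS hT.1 hb (be_mem hp hk hT hS hi) hib
  have h12 := bigs_mem hp hk hT hS (t := t) hi (by rw [← h11]; exact hbt)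
  have h13 : be D l T i ∈ X := (key i h12).2 ((key j h9).1 h10)
  exact hcl _ h13 b hb hbt hib.symm

end main

end Cfsg.Agent.H164.RG
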